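import Groth.Agent.BootLib.Corollaries
import Groth.Agent.BootLib.QuotProps
import Groth.Agent.EtSectLib.Main
import Groth.Agent.AlgStBig.Descent
import Groth.Agent.AlgStBig.PointsTop
import Groth.Agent.AlgStBig.Rows5
import Groth.Prelude.Def_AlgSpRep

/-!
# Étale sheaves with a smooth covering by an algebraic space
-/

set_option linter.all false
set_option autoImplicit false
set_option backward.isDefEq.respectTransparency false
set_option backward.isDefEq.respectTransparency.types false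

universe u

open CategoryTheory CategoryTheory.Limits AlgebraicGeometry Opposite AlgSp AlgSpLib

noncomputable section

namespace EtCritLib
open AlgStBig Groth.Agent.Boot

variable {S : Scheme.{u}}

/-- The étale topology is coarser than the fppf topology. -/
lemma etJ_le : QuotSh.J Scheme.etalePrecoverage S ≤ AlgSp.J S := by
  have h : Scheme.etalePrecoverage.{u} ≤ Scheme.fppfPrecoverage.{u} := by
    apply Scheme.precoverage_mono
    intro X Y f hf
    haveI : Etale f := hf
    exact ⟨inferInstance, inferInstance⟩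
  intro T R hR
  exact (GrothendieckTopology.mem_over_iff _ _).mpr
    (Precoverage.toGrothendieck_mono h _ ((GrothendieckTopology.mem_over_iff _ _).mp hR))

/-- A surjective smooth space over a scheme has étale local sections. -/
lemma exists_etale_sieve {W : Sp S} (hW : IsAlgSpace W) {T : Over S} (π : W ⟶ (yon S).obj T)
    (h : LocP @Smooth π) (hs : IsSurjectiveMor π) :
    ∃ R ∈ (QuotSh.J Scheme.etalePrecoverage S) T, ∀ ⦃V : Over S⦄ (g : V ⟶ T), R.arrows g →
      ∃ x : W.obj.obj (op V), π.hom.app _ x = ⟨g⟩ := by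
  obtain ⟨V₀, a, ha, has⟩ := hW.atlas
  obtain ⟨j, hj⟩ := (yon S).map_surjective (a ≫ π)
  haveI : Smooth j.left := (locP_yon_map_iff (P := @Smooth) j).mp
    (hj ▸ good_smooth.comp (IsAlgSpace.yon_obj V₀) hW (IsAlgSpace.yon_obj T) a π
      (locP_smooth_of_isEtaleMor (isEtaleMor_of_repWith ha)) h)
  have hsur : ∀ t : T.left, t ∈ Set.range j.left := fun t => by
    obtain ⟨z, hz⟩ := hs (Points.schemeHomeo T t)
    obtain ⟨w, hw⟩ := map_surjective_of_repWith has z
    obtain ⟨v, rfl⟩ := (Points.schemeHomeo V₀).surjective w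
    refine ⟨v, (Points.schemeHomeo T).injective ?_⟩
    rw [← Points.map_yon_map_apply, hj, Points.map_comp, hw, hz]
  have key := fun t => EtSectLib.exists_section j.left t (hsur t)
  choose S' g s' hg hgs h' hh' using key
  let c : ∀ t, Over.mk (g t ≫ T.hom) ⟶ T := fun t => Over.homMk (g t)
  refine ⟨Sieve.ofArrows _ c, ?_, ?_⟩
  · refine (GrothendieckTopology.mem_over_iff _ _).mpr ?_
    refine GrothendieckTopology.superset_covering _ ?_ (Precoverage.generate_mem_toGrothendieck
      ((Scheme.ofArrows_mem_precoverage_iff @Etale).2 ⟨fun t => ⟨t, s' t, hgs t⟩, hg⟩ :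
        Presieve.ofArrows S' g ∈ Scheme.precoverage @Etale T.left))
    rw [Sieve.generate_le_iff]
    rintro _ _ ⟨t⟩
    exact (Sieve.overEquiv_iff _ _).2 (Sieve.ofArrows_mk _ c t)
  · rintro V m ⟨_, k, _, ⟨t⟩, rfl⟩
    let σ : Over.mk (g t ≫ T.hom) ⟶ V₀ := Over.homMk (h' t) (by
      show h' t ≫ V₀.hom = g t ≫ T.hom
      rw [← Over.w j, reassoc_of% (hh' t)])
    have hσ : σ ≫ j = c t := Over.OverMorphism.ext (hh' t)
    refine ⟨a.hom.app _ ⟨k ≫ σ⟩, ?_⟩
    have := congrArg (fun m : (yon S).obj V₀ ⟶ (yon S).obj T => m.hom.app (op V) ⟨k ≫ σ⟩) hj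
    refine this.symm.trans ?_
    show (⟨(k ≫ σ) ≫ j⟩ : ULift _) = ⟨k ≫ c t⟩
    rw [Category.assoc, hσ]

variable {F : PSp S} {U : Sp S} (hU : IsAlgSpace U) (p : U.obj ⟶ F)

lemma uliftYonedaEquiv_symm_app {T V : Over S} (x : F.obj (op T)) (g : V ⟶ T) :
    (uliftYonedaEquiv.symm x : (pyon S).obj T ⟶ F).app (op V) ⟨g⟩ = F.map g.op x := rfl

section Rep

variable {p} (hp : RepBySpWith (IsSurjectiveMor ⊓ LocP @Smooth) p)
include hp

/-- Sections lift étale locally. -/
lemma exists_local_lift {T : Over S} (x : F.obj (op T)) :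
    ∃ R ∈ (QuotSh.J Scheme.etalePrecoverage S) T, ∀ ⦃V : Over S⦄ (g : V ⟶ T), R.arrows g →
      ∃ v : U.obj.obj (op V), p.app _ v = F.map g.op x := by
  let ξ : (pyon S).obj T ⟶ F := uliftYonedaEquiv.symm x
  have sq := IsPullback.of_hasPullback p ξ
  obtain ⟨hs, hA, hQ⟩ := hp ξ _ _ sq
  obtain ⟨R, hR, hlift⟩ := exists_etale_sieve hA (ObjectProperty.homMk (pullback.snd p ξ)) hQ.2 hQ.1
  refine ⟨R, hR, fun V g hg => ?_⟩
  obtain ⟨w, hw⟩ := hlift g hg
  refine ⟨(pullback.fst p ξ).app _ w, ?_⟩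
  refine (congrArg (fun m : pullback p ξ ⟶ F => m.app (op V) w) (pullback.condition (f := p) (g := ξ))).trans ?_
  show ξ.app (op V) ((pullback.snd p ξ).app (op V) w) = _
  erw [hw]
  exact uliftYonedaEquiv_symm_app x g

/-- A section which agrees with a lifted one on an fppf covering is the lifted one. -/
lemma eq_of_fppf_eq_lift {T : Over S} (x : F.obj (op T)) (v : U.obj.obj (op T)) {R : Sieve T}
    (hR : R ∈ (AlgSp.J S) T)
    (h : ∀ ⦃V : Over S⦄ (g : V ⟶ T), R.arrows g → F.map g.op (p.app _ v) = F.map g.op x) :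
    p.app _ v = x := by
  let ξ : (pyon S).obj T ⟶ F := uliftYonedaEquiv.symm x
  have sq := IsPullback.of_hasPullback p ξ
  obtain ⟨hs, -, -⟩ := hp ξ _ _ sq
  have sqV : ∀ V : Over S, _ := fun V => sq.map ((evaluation (Over S)ᵒᵖ (Type (u + 1))).obj (op V))
  have hex : ∀ ⦃V : Over S⦄ (g : V ⟶ T), R.arrows g → ∃ w : (pullback p ξ).obj (op V),
      (pullback.fst p ξ).app _ w = U.obj.map g.op v ∧ (pullback.snd p ξ).app _ w = ⟨g⟩ := fun V g hg =>
    Types.exists_of_isPullback (sqV V) (U.obj.map g.op v) ⟨g⟩ (by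
      show p.app _ (U.obj.map g.op v) = ξ.app _ ⟨g⟩
      rw [NatTrans.naturality_apply p, h g hg]
      exact (uliftYonedaEquiv_symm_app x g).symm)
  choose w hw₁ hw₂ using hex
  let fam : Presieve.FamilyOfElements (pullback p ξ) R.arrows := fun V g hg => w g hg
  have hcomp : fam.Compatible := by
    intro V₁ V₂ Z k₁ k₂ f₁ f₂ h₁ h₂ hk
    refine Types.ext_of_isPullback (sqV Z) ?_ ?_
    · show (pullback.fst p ξ).app _ _ = (pullback.fst p ξ).app _ _
      rw [NatTrans.naturality_apply, NatTrans.naturality_apply, hw₁, hw₁,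
        ← Functor.map_comp_apply, ← Functor.map_comp_apply, ← op_comp, ← op_comp, hk]
    · show (pullback.snd p ξ).app _ _ = (pullback.snd p ξ).app _ _
      rw [NatTrans.naturality_apply, NatTrans.naturality_apply, hw₂, hw₂]
      exact congrArg ULift.up hk
  have hsF := ((isSheaf_iff_isSheaf_of_type _ _).mp hs) R hR
  let W := hsF.amalgamate fam hcomp
  have hW : ∀ ⦃V : Over S⦄ (g : V ⟶ T) (hg : R.arrows g), (pullback p ξ).map g.op W = w g hg :=
    fun V g hg => hsF.valid_glue hcomp g hg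
  have e₁ : (pullback.fst p ξ).app (op T) W = v := by
    refine (((isSheaf_iff_isSheaf_of_type _ _).mp U.property) R hR).isSeparatedFor.ext fun V g hg => ?_
    rw [← NatTrans.naturality_apply, hW g hg, hw₁]
  have e₂ : (pullback.snd p ξ).app (op T) W = ⟨𝟙 T⟩ := by
    refine (((isSheaf_iff_isSheaf_of_type _ _).mp ((yon S).obj T).property) R hR).isSeparatedFor.ext
      fun V g hg => ?_
    erw [← NatTrans.naturality_apply, hW g hg, hw₂]
    exact congrArg ULift.up (Category.comp_id g).symm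
  rw [← e₁]
  refine (congrArg (fun m : pullback p ξ ⟶ F => m.app (op T) W) (pullback.condition (f := p) (g := ξ))).trans ?_
  show ξ.app (op T) ((pullback.snd p ξ).app (op T) W) = x
  erw [e₂]
  exact (uliftYonedaEquiv_symm_app x (𝟙 T)).trans (by simp)

variable (hF : Presieve.IsSheaf (QuotSh.J Scheme.etalePrecoverage S) F)
include hF

/-- `F` is separated for the fppf topology. -/
lemma eq_of_fppf_eq {T : Over S} (x y : F.obj (op T)) {R : Sieve T} (hR : R ∈ (AlgSp.J S) T)
    (h : ∀ ⦃V : Over S⦄ (g : V ⟶ T), R.arrows g → F.map g.op x = F.map g.op y) : x = y := by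
  obtain ⟨E, hE, hv⟩ := exists_local_lift hp y
  refine (hF E hE).isSeparatedFor.ext fun V g hg => ?_
  obtain ⟨v, hv⟩ := hv g hg
  rw [← hv]
  refine (eq_of_fppf_eq_lift hp _ v ((AlgSp.J S).pullback_stable g hR) fun Z k hk => ?_).symm
  rw [hv, ← Functor.map_comp_apply, ← Functor.map_comp_apply, ← op_comp]
  exact (h _ hk).symm

include hU in
/-- `F` is an algebraic space. -/
theorem isAlgSpaceP_of_smooth_cover : IsAlgSpaceP F := by
  obtain ⟨V, a, ha, has⟩ := hU.atlas
  haveI : Sheaf.IsLocallySurjective a := isLocallySurjective_of_repWith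
    (repWith_mono (fun _ _ g (_ : Etale g) => (inferInstance : Flat g)) ha)
    (repWith_mono (fun _ _ g (_ : Etale g) => (inferInstance : LocallyOfFinitePresentation g)) ha) has
  haveI : Presheaf.IsLocallySurjective (AlgSp.J S) p := by
    refine ⟨fun {T} s => ?_⟩
    obtain ⟨E, hE, hv⟩ := exists_local_lift hp s
    exact GrothendieckTopology.superset_covering _ (fun V g hg => hv g hg) (etJ_le _ hE)
  let G : Sp S := (presheafToSheaf (AlgSp.J S) (Type (u + 1))).obj F
  let η : F ⟶ G.obj := toSheafify (AlgSp.J S) F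
  have ηinj : ∀ T : (Over S)ᵒᵖ, Function.Injective (η.app T) := fun T x y hxy => by
    obtain ⟨T⟩ := T
    exact eq_of_fppf_eq hp hF x y (R := Presheaf.equalizerSieve (F := F) (X := op T) x y)
      (Presheaf.equalizerSieve_mem (AlgSp.J S) η x y hxy) fun W g hg => hg
  haveI : Mono η := by
    haveI : ∀ T, Mono (η.app T) := fun T => (CategoryTheory.mono_iff_injective _).mpr (ηinj T)
    exact NatTrans.mono_of_mono_app η
  let p' : (pyon S).obj V ⟶ F := a.hom ≫ p
  have sq₁ := IsPullback.of_hasPullback p p'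
  obtain ⟨hPs, hP, hπs, hπm⟩ := hp p' _ _ sq₁
  let P : Sp S := ⟨pullback p p', hPs⟩
  let π₁ : P ⟶ U := ObjectProperty.homMk (pullback.fst p p')
  let π₂ : P ⟶ (yon S).obj V := ObjectProperty.homMk (pullback.snd p p')
  let R : Sp S := pullback a π₁
  have hV := IsAlgSpace.yon_obj (S := S) V
  have hR : IsAlgSpace R := isAlgSpace_pullback hV hP hU a π₁
  let t : R ⟶ (yon S).obj V := pullback.fst a π₁
  let s : R ⟶ (yon S).obj V := pullback.snd a π₁ ≫ π₂
  have sqp : IsPullback t.hom s.hom p' p' :=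
    (isPullback_sheaf (IsPullback.of_hasPullback a π₁)).paste_vert sq₁
  let q : (yon S).obj V ⟶ G := ObjectProperty.homMk (p' ≫ η)
  have sqG : IsPullback t.hom s.hom (p' ≫ η) (p' ≫ η) :=
    IsPullback.of_isLimit' ⟨by simp [reassoc_of% sqp.w]⟩
      (PullbackCone.IsLimit.mk _
        (fun c => sqp.lift c.fst c.snd ((cancel_mono η).1 (by simpa using c.condition)))
        (fun c => sqp.lift_fst _ _ _) (fun c => sqp.lift_snd _ _ _)
        (fun c m h₁ h₂ => sqp.hom_ext (by simpa using h₁) (by simpa using h₂)))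
  have sqS : IsPullback t s q q := IsPullback.of_map (sheafToPresheaf (AlgSp.J S) (Type (u + 1)))
    (ObjectProperty.hom_ext _ sqG.w) sqG
  have hsm : LocP @Smooth s :=
    good_smooth.comp hR hP hV _ _
      (good_smooth.bc hV hU hR hP a π₁ _ _ (IsPullback.of_hasPullback a π₁)
        (locP_smooth_of_isEtaleMor (isEtaleMor_of_repWith ha))) hπm
  obtain ⟨i, hi⟩ : ∃ i : R ≅ R, i.hom ≫ s = t :=
    ⟨sqS.flip.isoIsPullback _ _ sqS, sqS.flip.isoIsPullback_hom_snd _ _ sqS⟩
  have htm : LocP @Smooth t := hi ▸ good_smooth.bc.precomp_iso i s hR hV hsm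
  haveI : Sheaf.IsLocallySurjective q := by
    haveI : Presheaf.IsLocallySurjective (AlgSp.J S) a.hom := ‹Sheaf.IsLocallySurjective a›
    haveI : Presheaf.IsLocallySurjective (AlgSp.J S) η :=
      inferInstanceAs (Presheaf.IsLocallySurjective (AlgSp.J S) (toSheafify (AlgSp.J S) F))
    haveI : Presheaf.IsLocallySurjective (AlgSp.J S) p' := Presheaf.isLocallySurjective_comp (AlgSp.J S) a.hom p
    exact Presheaf.isLocallySurjective_comp (AlgSp.J S) p' η
  haveI : Epi q := (Sheaf.isLocallySurjective_iff_epi _).mp inferInstance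
  have hG : IsAlgSpace G := isAlgSpace_of_space_kernelPair hR hV sqS (locP_flat_of_smooth hsm)
    (locP_lfp_of_smooth hsm) (locP_flat_of_smooth htm) (locP_lfp_of_smooth htm)
  have hq : FppfMor q := fppfMor_of_kernelPair hR hV hG sqS (locP_flat_of_smooth htm) (locP_lfp_of_smooth htm)
  have hqs : IsSurjectiveMor q := hq.1.1
  have hqm : LocP @Smooth q :=
    (isLocalOnBase_fppf_of_fpqc (isLocalOnBase_fpqc_locP_of_descendsAlong S @Smooth)
      (fun _ : PUnit.{u + 1} => (yon S).obj V) (fun _ => q) hG (fun _ => hV)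
      ⟨fun _ => ⟨hq.1.2, hq.2⟩, fun x => ⟨⟨⟩, hqs x⟩⟩ q hV (fun _ => R) (fun _ => s) (fun _ => t)
      (fun _ => hR) fun _ => sqS).mpr fun _ => hsm
  have ηsurj : ∀ T : (Over S)ᵒᵖ, Function.Surjective (η.app T) := by
    rintro ⟨T⟩ g₀
    let ζ : (yon S).obj T ⟶ G := yEq.symm g₀
    have hW : IsAlgSpace (pullback q ζ) := isAlgSpace_pullback hV (IsAlgSpace.yon_obj T) hG q ζ
    have sqW := IsPullback.of_hasPullback q ζ
    obtain ⟨E, hE, hlift⟩ := exists_etale_sieve hW (pullback.snd q ζ)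
      (good_smooth.bc hV hG hW (IsAlgSpace.yon_obj T) _ _ _ _ sqW hqm)
      (good_surjective.bc hV hG hW (IsAlgSpace.yon_obj T) _ _ _ _ sqW hqs)
    have hex : ∀ ⦃W : Over S⦄ (g : W ⟶ T), E.arrows g → ∃ y : F.obj (op W), η.app _ y = G.obj.map g.op g₀ := by
      intro W g hg
      obtain ⟨w, hw⟩ := hlift g hg
      refine ⟨p'.app _ ((pullback.fst q ζ).hom.app _ w), ?_⟩
      have := congrArg (fun m : pullback q ζ ⟶ G => m.hom.app (op W) w) (pullback.condition (f := q) (g := ζ))
      refine this.trans ?_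
      show ζ.hom.app (op W) ((pullback.snd q ζ).hom.app (op W) w) = _
      rw [hw]
      refine Eq.trans ?_ ((yEq_map ζ g).trans (congrArg (G.obj.map g.op) (Equiv.apply_symm_apply yEq g₀)))
      show ζ.hom.app (op W) ⟨g⟩ = ζ.hom.app (op W) ⟨𝟙 W ≫ g⟩
      rw [Category.id_comp]
    choose y hy using hex
    let fam : Presieve.FamilyOfElements F E.arrows := fun W g hg => y g hg
    have hcomp : fam.Compatible := by
      intro V₁ V₂ Z k₁ k₂ f₁ f₂ h₁ h₂ hk
      refine ηinj _ ?_
      rw [NatTrans.naturality_apply η, NatTrans.naturality_apply η, hy, hy,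
        ← Functor.map_comp_apply, ← Functor.map_comp_apply, ← op_comp, ← op_comp, hk]
    refine ⟨(hF E hE).amalgamate fam hcomp, ?_⟩
    refine (((isSheaf_iff_isSheaf_of_type _ _).mp G.property) E (etJ_le _ hE)).isSeparatedFor.ext fun W g hg => ?_
    rw [← NatTrans.naturality_apply η, (hF E hE).valid_glue hcomp g hg]
    exact hy g hg
  haveI : ∀ T, IsIso (η.app T) := fun T => (isIso_iff_bijective _).mpr ⟨ηinj T, ηsurj T⟩
  haveI : IsIso η := NatIso.isIso_of_isIso_app η
  have hsh : Presheaf.IsSheaf (AlgSp.J S) F := (Presheaf.isSheaf_of_iso_iff (asIso η)).mpr G.property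
  exact ⟨hsh, hG.of_iso ((fullyFaithfulSheafToPresheaf (AlgSp.J S) (Type (u + 1))).preimageIso
    (X := (⟨F, hsh⟩ : Sp S)) (Y := G) (asIso η)).symm⟩

end Rep

end EtCritLib
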